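import Groth.Agent.Lib.UnitProd.Scheme
import Groth.Agent.Lib.DiagGrp.TrivOver
import Groth.Agent.Lib.CurveLocus.Basic
import Groth.Agent.Lib.GrpSchField.ReducedProd
import Mathlib.AlgebraicGeometry.Geometrically.Reduced
import Mathlib.AlgebraicGeometry.Morphisms.Flat
import Mathlib.CategoryTheory.Monoidal.Cartesian.Over

/-!
Global functions are determined by rational values; units on products split.
-/

universe u

open CategoryTheory Limits AlgebraicGeometry MonoidalCategory CartesianMonoidalCategory

namespace GrothLib.UnitProd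

variable {K : Type u} [Field K] [IsAlgClosed K] {X : Scheme.{u}}

theorem value_mul (f g : Γ(X, ⊤)) (s : Spec (CommRingCat.of K) ⟶ X) :
    value (f * g) s = value f s * value g s := by
  simp [value, map_mul]

theorem value_comp {Y : Scheme.{u}} (f : Γ(Y, ⊤)) (a : X ⟶ Y) (s : Spec (CommRingCat.of K) ⟶ X) :
    value (a.appTop f) s = value f (s ≫ a) := by
  simp [value]

theorem geometricallyReduced_of_isReduced [IsReduced X] (p : X ⟶ Spec (.of K)) : GeometricallyReduced p := by
  rw [GrothLib.CurveLocus.geometricallyReduced_iff]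
  intro Ω _ _ t X' i q hsq
  have := GrothLib.GrpSchField.isReduced_pullback p t
  exact isReduced_of_isOpenImmersion hsq.isoPullback.hom

/-- The inclusion of constants. -/
noncomputable def constHom (p : X ⟶ Spec (.of K)) : K →+* Γ(X, ⊤) :=
  ((Scheme.ΓSpecIso (CommRingCat.of K)).inv ≫ p.appTop).hom

theorem value_constHom (p : X ⟶ Spec (.of K)) (c : K) (x : Pt p) : value (constHom p c) x.1 = c := by
  change value (p.appTop ((Scheme.ΓSpecIso (CommRingCat.of K)).inv c)) x.1 = c
  rw [value_comp, x.2]
  simp [value]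

theorem nonempty_pt [Nonempty X] (p : X ⟶ Spec (.of K)) [LocallyOfFiniteType p] : Nonempty (Pt p) := by
  have : JacobsonSpace X := LocallyOfFiniteType.jacobsonSpace (Y := Spec _) p
  obtain ⟨x, -, hx⟩ := nonempty_inter_closedPoints (X := X) (Z := Set.univ) Set.univ_nonempty isOpen_univ.isLocallyClosed
  exact ⟨⟨pointOfClosedPoint p x hx, pointOfClosedPoint_comp _ _ _⟩⟩

theorem eq_of_forall_value [IsReduced X] (p : X ⟶ Spec (.of K)) [LocallyOfFiniteType p] {f g : Γ(X, ⊤)}
    (h : ∀ x : Pt p, value f x.1 = value g x.1) : f = g := by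
  rw [← sub_eq_zero, ← AlgebraicGeometry.basicOpen_eq_bot_iff]
  by_contra hne
  have : JacobsonSpace X := LocallyOfFiniteType.jacobsonSpace (Y := Spec _) p
  obtain ⟨x, hxD, hx⟩ := nonempty_inter_closedPoints (X := X)
    ((TopologicalSpace.Opens.ne_bot_iff_nonempty _).mp hne) (X.basicOpen (f - g)).isOpen.isLocallyClosed
  let P : Pt p := ⟨pointOfClosedPoint p x hx, pointOfClosedPoint_comp _ _ _⟩
  have h0 : P.1.appTop (f - g) = 0 :=
    (Scheme.ΓSpecIso (CommRingCat.of K)).commRingCatIsoToRingEquiv.injective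
      (by rw [map_zero, map_sub, map_sub]; exact sub_eq_zero.mpr (h P))
  have h1 : IsLocalRing.closedPoint K ∈ P.1 ⁻¹ᵁ X.basicOpen (f - g) := by
    show P.1 (IsLocalRing.closedPoint K) ∈ X.basicOpen (f - g)
    rw [pointOfClosedPoint_apply]
    exact hxD
  rw [Scheme.preimage_basicOpen_top, h0, Scheme.basicOpen_zero] at h1
  exact h1

/-- Units on a product of connected reduced schemes of finite type split. -/
theorem exists_units_mul (X Y : Over (Spec (CommRingCat.of K))) [LocallyOfFiniteType X.hom]
    [LocallyOfFiniteType Y.hom] [IsReduced X.left] [IsReduced Y.left] [GeometricallyReduced X.hom]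
    [CompactSpace X.left] [CompactSpace Y.left] [ConnectedSpace X.left] [ConnectedSpace Y.left]
    (f : Γ((X ⊗ Y).left, ⊤)) (hf : IsUnit f) :
    ∃ (g : Γ(X.left, ⊤)) (h : Γ(Y.left, ⊤)), IsUnit g ∧ IsUnit h ∧
      f = (fst X Y).left.appTop g * (snd X Y).left.appTop h := by
  obtain ⟨x₀⟩ := nonempty_pt X.hom
  obtain ⟨y₀⟩ := nonempty_pt Y.hom
  have : Flat X.hom := GrothLib.DiagGrp.flat_of_field _
  have : IsLocallyNoetherian Y.left := LocallyOfFiniteType.isLocallyNoetherian Y.hom
  have : IsReduced (X ⊗ Y).left := inferInstanceAs (IsReduced (pullback X.hom Y.hom))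
  have : LocallyOfFiniteType (X ⊗ Y).hom := by dsimp; infer_instance
  let sX : X.left ⟶ pullback X.hom Y.hom := pullback.lift (𝟙 _) (X.hom ≫ y₀.1) (by
    rw [Category.assoc, y₀.2, Category.comp_id, Category.id_comp])
  let sY : Y.left ⟶ pullback X.hom Y.hom := pullback.lift (Y.hom ≫ x₀.1) (𝟙 _) (by
    rw [Category.assoc, x₀.2, Category.comp_id, Category.id_comp])
  let g := sX.appTop f
  let c := pairValue (p := X.hom) (q := Y.hom) f x₀ y₀
  have hc : c ≠ 0 := pairValue_ne_zero hf x₀ y₀
  let h := constHom Y.hom c⁻¹ * sY.appTop f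
  refine ⟨g, h, hf.map sX.appTop.hom, IsUnit.mul ((isUnit_iff_ne_zero.mpr (inv_ne_zero hc)).map _)
    (hf.map sY.appTop.hom), eq_of_forall_value (X ⊗ Y).hom fun z => ?_⟩
  let x : Pt X.hom := ⟨z.1 ≫ pullback.fst X.hom Y.hom, by rw [Category.assoc]; exact z.2⟩
  let y : Pt Y.hom := ⟨z.1 ≫ pullback.snd X.hom Y.hom, by rw [Category.assoc, ← pullback.condition]; exact z.2⟩
  have hz : pairValue (p := X.hom) (q := Y.hom) f x y = value f z.1 :=
    congrArg (value f) (pullback.hom_ext (pullback.lift_fst _ _ _) (pullback.lift_snd _ _ _))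
  have hg : value g x.1 = pairValue (p := X.hom) (q := Y.hom) f x y₀ := by
    rw [value_comp]
    refine congrArg (value f) (pullback.hom_ext ?_ ?_)
    · erw [Category.assoc, pullback.lift_fst, pullback.lift_fst]
      exact Category.comp_id _
    · simp only [sX, Category.assoc, pullback.lift_snd]
      rw [reassoc_of% x.2]
  have hh : value h y.1 = c⁻¹ * pairValue (p := X.hom) (q := Y.hom) f x₀ y := by
    rw [value_mul, value_constHom, value_comp]
    congr 1
    refine congrArg (value f) (pullback.hom_ext ?_ ?_)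
    · simp only [sY, Category.assoc, pullback.lift_fst]
      rw [reassoc_of% y.2]
    · erw [Category.assoc, pullback.lift_snd, pullback.lift_snd]
      exact Category.comp_id _
  have hr : pairValue (p := X.hom) (q := Y.hom) f x y * c = _ := rect_of_connected (p := X.hom) (q := Y.hom) hf x x₀ y y₀
  rw [value_mul, value_comp, value_comp, ← hz]
  show _ = value g x.1 * value h y.1
  rw [hg, hh, mul_left_comm, ← hr]
  field_simp

/-- A function integral over the constants is constant. -/
theorem mem_range_of_isIntegral [IsIntegral X] (p : X ⟶ Spec (.of K)) {t : Γ(X, ⊤)}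
    (ht : (constHom p).IsIntegralElem t) : t ∈ Set.range (constHom p) := by
  have : Nonempty ↥(⊤ : X.Opens) := ⟨⟨Classical.arbitrary X, trivial⟩⟩
  letI := (constHom p).toAlgebra
  have hi : IsIntegral K t := ht
  obtain ⟨c, hc⟩ := (IsAlgClosed.algebraMap_bijective_of_isIntegral (k := K)
    (K := integralClosure K Γ(X, ⊤))).2 ⟨t, hi⟩
  exact ⟨c, congrArg Subtype.val hc⟩

end GrothLib.UnitProd
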