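import Groth.Agent.Lib.GrpSchField.TensorDomain
import Mathlib.RingTheory.Valuation.LocalSubring
import Mathlib.RingTheory.TensorProduct.Free
import Mathlib.RingTheory.LocalRing.ResidueField.Basic

/-!
Units of a tensor product of two domains over an algebraically closed field split as products:
for rational points `φ φ'` of `A` and `ψ ψ'` of `B`, `u(φ,ψ) u(φ',ψ') = u(φ,ψ') u(φ',ψ)`.
-/

set_option linter.style.haveILetI false

universe u

open TensorProduct

namespace GrothLib.UnitProd

variable {K : Type u} [Field K]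

/-- Evaluation of the second factor at a rational point. -/
noncomputable def evalR (A : Type u) [CommRing A] [Algebra K A] {B : Type u} [CommRing B] [Algebra K B]
    (ψ : B →ₐ[K] K) : A ⊗[K] B →ₐ[K] A :=
  Algebra.TensorProduct.lift (AlgHom.id K A) ((Algebra.ofId K A).comp ψ) fun _ _ => mul_comm _ _

theorem evalR_tmul {A B : Type u} [CommRing A] [Algebra K A] [CommRing B] [Algebra K B]
    (ψ : B →ₐ[K] K) (a : A) (b : B) : evalR A ψ (a ⊗ₜ b) = a * algebraMap K A (ψ b) := by
  exact Algebra.TensorProduct.lift_tmul _ _ _ a b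

theorem evalR_map {A A' B : Type u} [CommRing A] [Algebra K A] [CommRing A'] [Algebra K A'] [CommRing B]
    [Algebra K B] (f : A →ₐ[K] A') (ψ : B →ₐ[K] K) (x : A ⊗[K] B) :
    evalR A' ψ (Algebra.TensorProduct.map f (AlgHom.id K B) x) = f (evalR A ψ x) := by
  have : (evalR A' ψ).comp (Algebra.TensorProduct.map f (AlgHom.id K B)) = f.comp (evalR A ψ) := by
    apply Algebra.TensorProduct.ext'
    intro a b
    simp [evalR_tmul]
  exact DFunLike.congr_fun this x

variable [IsAlgClosed K] {B : Type u} [CommRing B] [Algebra K B] [IsDomain B]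
  {L : Type u} [Field L] [Algebra K L]

theorem evalR_div_mem (u : L ⊗[K] B) (hu : IsUnit u) (ψ ψ' : B →ₐ[K] K) (V : ValuationSubring L)
    (hK : ∀ c : K, algebraMap K L c ∈ V) : evalR L ψ u / evalR L ψ' u ∈ V := by
  classical
  letI : Algebra K V := ((algebraMap K L).codRestrict V hK).toAlgebra
  let val : V →ₐ[K] L := { V.subtype with commutes' := fun _ => rfl }
  have hval : ∀ v : V, val v = (v : L) := fun v => rfl
  let κ := IsLocalRing.ResidueField V
  let res : V →ₐ[K] κ := { IsLocalRing.residue V with commutes' := fun _ => rfl }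
  let ι := Algebra.TensorProduct.map val (AlgHom.id K B)
  let red := Algebra.TensorProduct.map res (AlgHom.id K B)
  have hι : Function.Injective ι :=
    Module.Flat.rTensor_preserves_injective_linearMap (M := B) val.toLinearMap Subtype.val_injective
  let b := Module.Free.chooseBasis K B
  have key : ∀ x : L ⊗[K] B, x ≠ 0 →
      ∃ (c : L) (x' : V ⊗[K] B), c ≠ 0 ∧ red x' ≠ 0 ∧ x = c • ι x' := by
    intro x hx
    let e := Algebra.TensorProduct.basis L b
    have hs : (e.repr x).support.Nonempty := Finsupp.support_nonempty_iff.mpr fun h =>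
      hx (e.repr.map_eq_zero_iff.mp h)
    obtain ⟨i₀, hi₀, hmax⟩ :=
      Finset.exists_max_image (e.repr x).support (fun i => V.valuation (e.repr x i)) hs
    have hc : e.repr x i₀ ≠ 0 := Finsupp.mem_support_iff.mp hi₀
    have hv : ∀ i, e.repr x i / e.repr x i₀ ∈ V := by
      intro i
      rw [← V.valuation_le_one_iff, map_div₀]
      by_cases hi : i ∈ (e.repr x).support
      · exact div_le_one_of_le₀ (hmax i hi) zero_le
      · simp [Finsupp.notMem_support_iff.mp hi]
    let v : _ → V := fun i => ⟨_, hv i⟩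
    refine ⟨e.repr x i₀, ∑ i ∈ (e.repr x).support, v i ⊗ₜ b i, hc, ?_, ?_⟩
    · intro h0
      let e' := Algebra.TensorProduct.basis κ b
      have h1 := congrArg (fun y => e'.repr y i₀) h0
      simp only [red, map_sum, Algebra.TensorProduct.map_tmul, AlgHom.id_apply,
        Finsupp.coe_finsetSum, Finset.sum_apply] at h1
      rw [Finset.sum_eq_single i₀, map_zero] at h1
      · rw [Algebra.TensorProduct.basis_repr_tmul] at h1
        have hv1 : v i₀ = 1 := Subtype.ext (div_self hc)
        simp [hv1] at h1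
      · intro i _ hi
        rw [Algebra.TensorProduct.basis_repr_tmul]
        simp [Finsupp.single_eq_of_ne hi.symm]
      · exact fun h => absurd hi₀ h
    · simp only [ι, map_sum, Algebra.TensorProduct.map_tmul, AlgHom.id_apply, Finset.smul_sum,
        TensorProduct.smul_tmul', smul_eq_mul, hval, v, mul_div_cancel₀ _ hc]
      conv_lhs => rw [← e.linearCombination_repr x, Finsupp.linearCombination_apply, Finsupp.sum]
      refine Finset.sum_congr rfl fun i _ => ?_
      rw [Algebra.TensorProduct.basis_apply, TensorProduct.smul_tmul', smul_eq_mul, mul_one]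
  obtain ⟨u, rfl⟩ := hu
  have : Nontrivial (L ⊗[K] B) := Algebra.TensorProduct.nontrivial_of_algebraMap_injective_of_isDomain
    K L B (algebraMap K L).injective (algebraMap K B).injective
  obtain ⟨c, x, hc, hx, hux⟩ := key u u.ne_zero
  obtain ⟨d, y, hd, hy, huy⟩ := key (↑u⁻¹) u⁻¹.ne_zero
  have h1 : (c * d) • ι (x * y) = 1 := by
    rw [map_mul, mul_comm c d, ← smul_eq_mul d c, smul_assoc, ← smul_mul_assoc, ← hux,
      ← mul_smul_comm, ← huy, Units.mul_inv]
  have h2 : ι (x * y) = ((c * d)⁻¹ : L) ⊗ₜ (1 : B) := by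
    rw [← inv_smul_smul₀ (mul_ne_zero hc hd) (ι (x * y)), h1, Algebra.TensorProduct.one_def,
      TensorProduct.smul_tmul', smul_eq_mul, mul_one]
  have hval' : ∀ (θ : B →ₐ[K] K) (z : V ⊗[K] B), evalR L θ (ι z) = (evalR V θ z : L) :=
    fun θ z => evalR_map val θ z
  have h3 : ∀ θ : B →ₐ[K] K, (evalR V θ x : L) * evalR V θ y = (c * d)⁻¹ := fun θ => by
    rw [← hval', ← hval', ← map_mul, ← map_mul, h2, evalR_tmul, map_one, map_one, mul_one]
  let ε : V := evalR V ψ x * evalR V ψ y
  have h4 : x * y = ε ⊗ₜ (1 : B) := hι (by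
    rw [h2]
    simp only [ι, Algebra.TensorProduct.map_tmul, hval, AlgHom.id_apply, ε, MulMemClass.coe_mul, h3])
  have : IsDomain (κ ⊗[K] B) := GrothLib.GrpSchField.isDomain_tensorProduct
  have hε : IsUnit ε := by
    by_contra h
    have h0 : red (x * y) = 0 := by
      rw [h4]
      simp only [red, Algebra.TensorProduct.map_tmul]
      have : res ε = 0 := (IsLocalRing.residue_eq_zero_iff ε).mpr h
      rw [this, TensorProduct.zero_tmul]
    rw [map_mul] at h0
    exact mul_ne_zero hx hy h0
  have hu' : ∀ θ : B →ₐ[K] K, IsUnit (evalR V θ x) := fun θ => by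
    refine isUnit_of_mul_isUnit_left (y := evalR V θ y) ?_
    have : evalR V θ x * evalR V θ y = ε := Subtype.ext (by
      simp only [MulMemClass.coe_mul, ε, h3])
    rwa [this]
  have he : ∀ θ : B →ₐ[K] K, evalR L θ (u : L ⊗[K] B) = c * (evalR V θ x : L) := fun θ => by
    rw [hux, Algebra.smul_def, map_mul, hval', Algebra.TensorProduct.algebraMap_apply,
      evalR_tmul, map_one, map_one, mul_one, Algebra.algebraMap_self, RingHom.id_apply]
  obtain ⟨w, hw⟩ := hu' ψ'
  rw [he, he, mul_div_mul_left _ _ hc]
  have hinv : ((↑w⁻¹ : V) : L) = (evalR V ψ' x : L)⁻¹ := by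
    refine eq_inv_of_mul_eq_one_left ?_
    rw [← hw, ← MulMemClass.coe_mul, Units.inv_mul]
    rfl
  rw [div_eq_mul_inv, ← hinv, ← MulMemClass.coe_mul]
  exact Subtype.mem _

omit [IsDomain B] in
theorem mem_range_of_forall_mem {x : L}
    (h : ∀ V : ValuationSubring L, (∀ c : K, algebraMap K L c ∈ V) → x ∈ V) :
    x ∈ (algebraMap K L).range := by
  have hmem : x ∈ (⨅ V : {V : ValuationSubring L // Set.range (algebraMap K L) ⊆ V.toSubring},
      V.1.toSubring) := by
    rw [Subring.mem_iInf]
    exact fun V => h V.1 fun c => V.2 ⟨c, rfl⟩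
  rw [iInf_valuationSubring_superset] at hmem
  have hint : IsIntegral K x := by
    have h' : IsIntegral (Subring.closure (Set.range (algebraMap K L))) x := hmem
    have hcl : Subring.closure (Set.range (algebraMap K L)) = (algebraMap K L).range := by
      rw [← RingHom.coe_range, Subring.closure_eq]
    obtain ⟨p, hp, hp0⟩ := h'
    let e : K →+* (Subring.closure (Set.range (algebraMap K L)) : Subring L) :=
      (algebraMap K L).codRestrict _ fun c => Subring.subset_closure ⟨c, rfl⟩
    obtain ⟨q, hq, -, hqm⟩ := Polynomial.lifts_and_degree_eq_and_monic (f := e) (p := p)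
      (by
        rw [Polynomial.lifts_iff_coeff_lifts]
        intro i
        obtain ⟨c, hc⟩ := (hcl ▸ (p.coeff i).2 : (p.coeff i : L) ∈ (algebraMap K L).range)
        exact ⟨c, Subtype.ext hc⟩) hp
    refine ⟨q, hqm, ?_⟩
    rw [← hq, Polynomial.eval₂_map] at hp0
    exact hp0
  exact minpoly.mem_range_of_degree_eq_one K x
    (IsAlgClosed.degree_eq_one_of_irreducible K (minpoly.irreducible hint))

/-- Units of a tensor product of domains over an algebraically closed field split on rational points. -/
theorem rect_identity {A : Type u} [CommRing A] [Algebra K A] [IsDomain A]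
    (u : A ⊗[K] B) (hu : IsUnit u) (φ φ' : A →ₐ[K] K) (ψ ψ' : B →ₐ[K] K) :
    φ (evalR A ψ u) * φ' (evalR A ψ' u) = φ (evalR A ψ' u) * φ' (evalR A ψ u) := by
  let L := FractionRing A
  let f : A →ₐ[K] L := IsScalarTower.toAlgHom K A L
  let uL := Algebra.TensorProduct.map f (AlgHom.id K B) u
  have ha' : f (evalR A ψ' u) ≠ 0 := ((hu.map (evalR A ψ')).map f).ne_zero
  obtain ⟨t, ht⟩ := mem_range_of_forall_mem (K := K) (x := f (evalR A ψ u) / f (evalR A ψ' u))
    fun V hV => by
      rw [← evalR_map f ψ, ← evalR_map f ψ']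
      exact evalR_div_mem uL (hu.map _) ψ ψ' V hV
  have heq : evalR A ψ u = algebraMap K A t * evalR A ψ' u := by
    have hf : Function.Injective f := IsFractionRing.injective A L
    apply hf
    rw [map_mul, f.commutes, ht, div_mul_cancel₀ _ ha']
  rw [heq, map_mul, map_mul, AlgHom.commutes, AlgHom.commutes]
  simp only [Algebra.algebraMap_self, RingHom.id_apply]
  ring

end GrothLib.UnitProd
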