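import Groth.Agent.Lib.UnitProd.Algebra
import Mathlib.AlgebraicGeometry.AlgClosed.Basic
import Mathlib.AlgebraicGeometry.Morphisms.FiniteType
import Mathlib.AlgebraicGeometry.Noetherian
import Mathlib.AlgebraicGeometry.Pullbacks

/-!
A global unit on the product of two connected finite type schemes over an algebraically closed field
splits on rational points.
-/

set_option linter.style.haveILetI false

universe u

open CategoryTheory Limits AlgebraicGeometry TensorProduct

namespace GrothLib.UnitProd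

theorem rel_of_connected {X : Type u} [TopologicalSpace X] [TopologicalSpace.NoetherianSpace X]
    [QuasiSober X] [T0Space X] [PreconnectedSpace X] (r : X → X → Prop)
    (htrans : ∀ a b c : X, IsClosed ({b} : Set X) → r a b → r b c → r a c)
    (hr : ∀ η a b : X, IsClosed ({a} : Set X) → IsClosed ({b} : Set X) → η ⤳ a → η ⤳ b → r a b)
    {a b : X} (ha : IsClosed ({a} : Set X)) (hb : IsClosed ({b} : Set X)) : r a b := by
  have hirr : ∀ Z ∈ irreducibleComponents X, ∀ c d : X, IsClosed ({c} : Set X) → IsClosed ({d} : Set X) →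
      c ∈ Z → d ∈ Z → r c d := by
    intro Z hZ c d hc hd hcZ hdZ
    have hZc := isClosed_of_mem_irreducibleComponents Z hZ
    have hgen := hZ.1.isGenericPoint_genericPoint hZc
    exact hr _ c d hc hd (hgen.specializes hcZ) (hgen.specializes hdZ)
  let S₁ : Set (Set X) := {Z ∈ irreducibleComponents X | ∀ c ∈ Z, IsClosed ({c} : Set X) → r a c}
  let S₂ : Set (Set X) := irreducibleComponents X \ S₁
  have hfin : (irreducibleComponents X).Finite := TopologicalSpace.NoetherianSpace.finite_irreducibleComponents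
  have hcl : ∀ S ⊆ irreducibleComponents X, IsClosed (⋃₀ S) := fun S hS => by
    rw [Set.sUnion_eq_biUnion]
    exact (hfin.subset hS).isClosed_biUnion fun Z hZ => isClosed_of_mem_irreducibleComponents Z (hS hZ)
  have hcover : ⋃₀ S₁ ∪ ⋃₀ S₂ = Set.univ := by
    rw [← Set.sUnion_union, Set.union_sdiff_cancel (show S₁ ⊆ irreducibleComponents X from fun Z h => h.1)]
    exact sUnion_irreducibleComponents
  have hdisj : Disjoint (⋃₀ S₁) (⋃₀ S₂) := by
    rw [Set.disjoint_left]
    rintro z ⟨Z₁, hZ₁, hz₁⟩ ⟨Z₂, hZ₂, hz₂⟩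
    obtain ⟨c, hc, hcc⟩ := (isClosed_closure (s := ({z} : Set X))).exists_closed_singleton
      ⟨z, subset_closure rfl⟩
    have hc₁ : c ∈ Z₁ :=
      (isClosed_of_mem_irreducibleComponents _ hZ₁.1).closure_subset_iff.mpr (by simpa using hz₁) hc
    have hc₂ : c ∈ Z₂ :=
      (isClosed_of_mem_irreducibleComponents _ hZ₂.1).closure_subset_iff.mpr (by simpa using hz₂) hc
    exact hZ₂.2 ⟨hZ₂.1, fun d hd hdc => htrans _ _ _ hcc (hZ₁.2 c hc₁ hcc) (hirr _ hZ₂.1 c d hcc hdc hc₂ hd)⟩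
  have hraa : r a a := hr a a a ha ha (specializes_refl a) (specializes_refl a)
  have ha₁ : a ∈ ⋃₀ S₁ := by
    obtain ⟨Z, hZ, haZ⟩ : a ∈ ⋃₀ irreducibleComponents X := by
      rw [sUnion_irreducibleComponents]; trivial
    exact ⟨Z, ⟨hZ, fun c hc hcc => hirr Z hZ a c ha hcc haZ hc⟩, haZ⟩
  have hopen : IsOpen (⋃₀ S₁) := by
    have : ⋃₀ S₁ = (⋃₀ S₂)ᶜ :=
      (IsCompl.of_eq hdisj.eq_bot hcover).eq_compl
    rw [this]
    exact (hcl S₂ Set.sdiff_subset).isOpen_compl
  have huniv : ⋃₀ S₁ = Set.univ :=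
    IsClopen.eq_univ ⟨hcl S₁ (fun Z h => h.1), hopen⟩ ⟨a, ha₁⟩
  obtain ⟨Z, hZ, hbZ⟩ : b ∈ ⋃₀ S₁ := huniv ▸ Set.mem_univ b
  exact hZ.2 b hbZ hb

variable {K : Type u} [Field K]

/-- Rational points of a scheme over a field. -/
abbrev Pt {X : Scheme.{u}} (p : X ⟶ Spec (.of K)) := {x : Spec (CommRingCat.of K) ⟶ X // x ≫ p = 𝟙 _}

/-- The point of the underlying space. -/
noncomputable abbrev Pt.pt {X : Scheme.{u}} {p : X ⟶ Spec (.of K)} (x : Pt p) : X :=
  x.1 (IsLocalRing.closedPoint K)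

/-- The value of a global function at a morphism from `Spec K`. -/
noncomputable def value {P : Scheme.{u}} (w : Γ(P, ⊤)) (s : Spec (CommRingCat.of K) ⟶ P) : K :=
  (Scheme.ΓSpecIso (CommRingCat.of K)).hom (s.appTop w)

theorem isUnit_value {P : Scheme.{u}} {w : Γ(P, ⊤)} (hw : IsUnit w) (s : Spec (CommRingCat.of K) ⟶ P) :
    IsUnit (value w s) :=
  (hw.map s.appTop.hom).map (Scheme.ΓSpecIso (CommRingCat.of K)).hom.hom

theorem value_comp_specMap {P : Scheme.{u}} (w : Γ(P, ⊤)) {R : CommRingCat.{u}} (c : Spec R ⟶ P)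
    (θ : R ⟶ CommRingCat.of K) :
    value w (Spec.map θ ≫ c) = θ ((Scheme.ΓSpecIso R).hom (c.appTop w)) := by
  have h := Scheme.ΓSpecIso_naturality θ
  rw [value, Scheme.Hom.comp_appTop, CommRingCat.comp_apply, ← CommRingCat.comp_apply, h]
  rfl

/-- A chart through two rational points with a common generization in an affine open. -/
theorem exists_chart {X : Scheme.{u}} (p : X ⟶ Spec (.of K)) (η : X) (x x' : Pt p) (U : X.Opens)
    (hU : IsAffineOpen U) (hxU : x.pt ∈ U) (hxU' : x'.pt ∈ U) (hx : η ⤳ x.pt) (hx' : η ⤳ x'.pt) :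
    ∃ (A : Type u) (_ : CommRing A) (_ : Algebra K A) (_ : IsDomain A) (a : Spec (.of A) ⟶ X)
      (φ φ' : A →ₐ[K] K), a ≫ p = Spec.map (CommRingCat.ofHom (algebraMap K A)) ∧
      Spec.map (CommRingCat.ofHom φ.toRingHom) ≫ a = x.1 ∧
      Spec.map (CommRingCat.ofHom φ'.toRingHom) ≫ a = x'.1 := by
  have hη : η ∈ U := hx.mem_open U.isOpen hxU
  obtain ⟨P, hP⟩ : ∃ P, hU.fromSpec P = η := ⟨_, hU.fromSpec_primeIdealOf ⟨η, hη⟩⟩
  let A := Γ(X, U) ⧸ P.asIdeal
  let π : Γ(X, U) ⟶ CommRingCat.of A := CommRingCat.ofHom (Ideal.Quotient.mk P.asIdeal)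
  let g : CommRingCat.of K ⟶ CommRingCat.of A := Spec.preimage (Spec.map π ≫ hU.fromSpec ≫ p)
  letI : Algebra K A := g.hom.toAlgebra
  have ha : (Spec.map π ≫ hU.fromSpec) ≫ p = Spec.map (CommRingCat.ofHom (algebraMap K A)) := by
    show _ = Spec.map g
    rw [Spec.map_preimage, Category.assoc]
  have hfac : ∀ z : Pt p, z.pt ∈ U → η ⤳ z.pt →
      ∃ φ : A →ₐ[K] K, Spec.map (CommRingCat.ofHom φ.toRingHom) ≫ Spec.map π ≫ hU.fromSpec = z.1 := by
    intro z hzU hz
    have hrange : Set.range z.1 ⊆ Set.range hU.fromSpec := by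
      rw [hU.range_fromSpec]
      rintro _ ⟨t, rfl⟩
      rwa [Subsingleton.elim t (IsLocalRing.closedPoint K)]
    obtain ⟨χ, hχ⟩ : ∃ χ, Spec.map χ ≫ hU.fromSpec = z.1 :=
      ⟨Spec.preimage (IsOpenImmersion.lift hU.fromSpec z.1 hrange), by
        rw [Spec.map_preimage, IsOpenImmersion.lift_fac]⟩
    have hle : P.asIdeal ≤ RingHom.ker χ.hom := by
      have h1 : P ⤳ (Spec.map χ) (IsLocalRing.closedPoint K) := by
        refine hU.fromSpec.isOpenEmbedding.isInducing.specializes_iff.mp ?_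
        have e : hU.fromSpec ((Spec.map χ) (IsLocalRing.closedPoint K)) = z.pt :=
          (Scheme.Hom.comp_apply (Spec.map χ) hU.fromSpec _).symm.trans
            (congrArg (fun f : Spec (CommRingCat.of K) ⟶ X => f (IsLocalRing.closedPoint K)) hχ)
        exact (hP ▸ e ▸ hz)
      have h2 : P.asIdeal ≤ ((Spec.map χ) (IsLocalRing.closedPoint K) : PrimeSpectrum Γ(X, U)).asIdeal :=
        (PrimeSpectrum.le_iff_specializes _ _).mpr h1
      refine h2.trans fun r hr => ?_
      have : χ.hom r ∈ IsLocalRing.maximalIdeal K := hr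
      rwa [IsLocalRing.maximalIdeal_eq_bot, Ideal.mem_bot] at this
    let φ₀ : A →+* K := Ideal.Quotient.lift P.asIdeal χ.hom hle
    have hφ : Spec.map (CommRingCat.ofHom φ₀) ≫ Spec.map π ≫ hU.fromSpec = z.1 := by
      rw [← Spec.map_comp_assoc, ← hχ]
      congr 2
    refine ⟨{ φ₀ with commutes' := fun c => ?_ }, hφ⟩
    have h3 : Spec.map (CommRingCat.ofHom φ₀) ≫ Spec.map g = 𝟙 _ := by
      rw [Spec.map_preimage, ← z.2, ← hφ]; simp only [Category.assoc]
    rw [← Spec.map_comp, ← Spec.map_id] at h3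
    exact congr($(Spec.map_injective h3).hom c)
  obtain ⟨φ, hφ⟩ := hfac x hxU hx
  obtain ⟨φ', hφ'⟩ := hfac x' hxU' hx'
  haveI : P.asIdeal.IsPrime := P.2
  have hdom : IsDomain A := inferInstanceAs (IsDomain (Γ(X, U) ⧸ P.asIdeal))
  exact ⟨A, inferInstance, inferInstance, hdom, Spec.map π ≫ hU.fromSpec, φ, φ', ha, hφ, hφ'⟩

variable [IsAlgClosed K] {X Y : Scheme.{u}} {p : X ⟶ Spec (.of K)} {q : Y ⟶ Spec (.of K)}
  (w : Γ(pullback p q, ⊤))

/-- The value at a pair of points. -/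
noncomputable def pairValue (x : Pt p) (y : Pt q) : K :=
  value w (pullback.lift x.1 y.1 (by rw [x.2, y.2]))

/-- The rectangle identity. -/
def Rect (x x' : Pt p) (y y' : Pt q) : Prop :=
  pairValue w x y * pairValue w x' y' = pairValue w x y' * pairValue w x' y

variable {w}

theorem pairValue_ne_zero (hw : IsUnit w) (x : Pt p) (y : Pt q) : pairValue w x y ≠ 0 :=
  (isUnit_value hw _).ne_zero

theorem Rect.trans (hw : IsUnit w) {x x' x'' : Pt p} {y y' : Pt q} (h : Rect w x x' y y')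
    (h' : Rect w x' x'' y y') : Rect w x x'' y y' := by
  unfold Rect at *
  apply mul_left_cancel₀ (mul_ne_zero (pairValue_ne_zero hw x' y) (pairValue_ne_zero hw x' y'))
  linear_combination (pairValue w x' y * pairValue w x'' y') * h +
    (pairValue w x' y * pairValue w x y') * h'

theorem Rect.trans_right (hw : IsUnit w) {x x' : Pt p} {y y' y'' : Pt q} (h : Rect w x x' y y')
    (h' : Rect w x x' y' y'') : Rect w x x' y y'' := by
  unfold Rect at *
  apply mul_left_cancel₀ (mul_ne_zero (pairValue_ne_zero hw x y') (pairValue_ne_zero hw x' y'))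
  linear_combination (pairValue w x y' * pairValue w x' y'') * h +
    (pairValue w x y' * pairValue w x' y) * h'

theorem Rect.symm {x x' : Pt p} {y y' : Pt q} (h : Rect w x x' y y') : Rect w x' x y y' := by
  unfold Rect at *; linear_combination -h

theorem Rect.symm_right {x x' : Pt p} {y y' : Pt q} (h : Rect w x x' y y') : Rect w x x' y' y := by
  unfold Rect at *; linear_combination -h

theorem rect_of_affine (hw : IsUnit w) {η : X} {θ : Y} (x x' : Pt p) (y y' : Pt q)
    {U : X.Opens} (hU : IsAffineOpen U) (hxU : x.pt ∈ U) (hxU' : x'.pt ∈ U) (hx : η ⤳ x.pt)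
    (hx' : η ⤳ x'.pt) {W : Y.Opens} (hW : IsAffineOpen W) (hyW : y.pt ∈ W) (hyW' : y'.pt ∈ W)
    (hy : θ ⤳ y.pt) (hy' : θ ⤳ y'.pt) : Rect w x x' y y' := by
  obtain ⟨A, _, _, _, a, φ, φ', ha, hφ, hφ'⟩ := exists_chart p η x x' U hU hxU hxU' hx hx'
  obtain ⟨B, _, _, _, b, ψ, ψ', hb, hψ, hψ'⟩ := exists_chart q θ y y' W hW hyW hyW' hy hy'
  let iL : CommRingCat.of A ⟶ CommRingCat.of (A ⊗[K] B) :=
    CommRingCat.ofHom Algebra.TensorProduct.includeLeftRingHom
  let iR : CommRingCat.of B ⟶ CommRingCat.of (A ⊗[K] B) :=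
    CommRingCat.ofHom (Algebra.TensorProduct.includeRight : B →ₐ[K] A ⊗[K] B).toRingHom
  have hc : (Spec.map iL ≫ a) ≫ p = (Spec.map iR ≫ b) ≫ q := by
    rw [Category.assoc, Category.assoc, ha, hb, ← Spec.map_comp, ← Spec.map_comp]
    congr 1
    ext c
    exact (Algebra.TensorProduct.includeLeft.commutes c).trans
      ((Algebra.TensorProduct.includeRight : B →ₐ[K] A ⊗[K] B).commutes c).symm
  let c := pullback.lift (Spec.map iL ≫ a) (Spec.map iR ≫ b) hc
  let u : A ⊗[K] B := (Scheme.ΓSpecIso (CommRingCat.of (A ⊗[K] B))).hom (c.appTop w)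
  have hu : IsUnit u := (hw.map c.appTop.hom).map (Scheme.ΓSpecIso _).hom.hom
  have hval : ∀ (xx : Pt p) (yy : Pt q) (f : A →ₐ[K] K) (g : B →ₐ[K] K),
      Spec.map (CommRingCat.ofHom f.toRingHom) ≫ a = xx.1 →
      Spec.map (CommRingCat.ofHom g.toRingHom) ≫ b = yy.1 → pairValue w xx yy = f (evalR A g u) := by
    intro xx yy f g hf hg
    let t : CommRingCat.of (A ⊗[K] B) ⟶ CommRingCat.of K := CommRingCat.ofHom (f.comp (evalR A g)).toRingHom
    have : pullback.lift xx.1 yy.1 (by rw [xx.2, yy.2]) = Spec.map t ≫ c := by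
      apply pullback.hom_ext
      · rw [pullback.lift_fst, Category.assoc, pullback.lift_fst, ← Spec.map_comp_assoc, ← hf]
        congr 2
        ext r
        show f r = f (evalR A g (r ⊗ₜ 1))
        rw [evalR_tmul, map_one, map_one, mul_one]
      · rw [pullback.lift_snd, Category.assoc, pullback.lift_snd, ← Spec.map_comp_assoc, ← hg]
        congr 2
        ext r
        show g r = f (evalR A g (1 ⊗ₜ r))
        rw [evalR_tmul, one_mul, AlgHom.commutes]
        rfl
    rw [pairValue, this, value_comp_specMap]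
    rfl
  unfold Rect
  rw [hval x y φ ψ hφ hψ, hval x' y' φ' ψ' hφ' hψ', hval x y' φ ψ' hφ hψ', hval x' y φ' ψ hφ' hψ]
  exact rect_identity u hu φ φ' ψ ψ'

variable [LocallyOfFiniteType p] [LocallyOfFiniteType q]

theorem exists_middle (η : X) (x x' : Pt p) (hx : η ⤳ x.pt) (hx' : η ⤳ x'.pt) :
    ∃ (U U' : X.Opens) (_ : IsAffineOpen U) (_ : IsAffineOpen U') (z : Pt p),
      x.pt ∈ U ∧ z.pt ∈ U ∧ z.pt ∈ U' ∧ x'.pt ∈ U' ∧ η ⤳ z.pt := by
  have : JacobsonSpace X := LocallyOfFiniteType.jacobsonSpace p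
  obtain ⟨_, ⟨U, hU, rfl⟩, hxU, -⟩ :=
    X.isBasis_affineOpens.exists_subset_of_mem_open (Set.mem_univ x.pt) isOpen_univ
  obtain ⟨_, ⟨U', hU', rfl⟩, hxU', -⟩ :=
    X.isBasis_affineOpens.exists_subset_of_mem_open (Set.mem_univ x'.pt) isOpen_univ
  obtain ⟨c, ⟨⟨hcU, hcU'⟩, hc⟩, hcc⟩ := nonempty_inter_closedPoints
    (Z := ((U : Set X) ∩ (U' : Set X)) ∩ closure {η})
    ⟨η, ⟨hx.mem_open U.isOpen hxU, hx'.mem_open U'.isOpen hxU'⟩, subset_closure rfl⟩
    ((U.isOpen.inter U'.isOpen).isLocallyClosed.inter isClosed_closure.isLocallyClosed)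
  refine ⟨U, U', hU, hU', ⟨pointOfClosedPoint p c hcc, pointOfClosedPoint_comp _ _ _⟩, hxU, ?_, ?_, hxU', ?_⟩
  all_goals
    have e : (pointOfClosedPoint p c hcc) (IsLocalRing.closedPoint K) = c := pointOfClosedPoint_apply p c hcc _
    simp only [Pt.pt]
  · exact e.symm ▸ hcU
  · exact e.symm ▸ hcU'
  · exact e.symm ▸ specializes_iff_mem_closure.mpr hc

theorem rect_of_common_generization (hw : IsUnit w) {η : X} {θ : Y} (x x' : Pt p) (y y' : Pt q)
    (hx : η ⤳ x.pt) (hx' : η ⤳ x'.pt) (hy : θ ⤳ y.pt) (hy' : θ ⤳ y'.pt) : Rect w x x' y y' := by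
  obtain ⟨U, U', hU, hU', z, hxU, hzU, hzU', hxU', hz⟩ := exists_middle η x x' hx hx'
  obtain ⟨W, W', hW, hW', t, hyW, htW, htW', hyW', ht⟩ := exists_middle θ y y' hy hy'
  have h : ∀ {U : X.Opens}, IsAffineOpen U → ∀ a b : Pt p, a.pt ∈ U → b.pt ∈ U → η ⤳ a.pt → η ⤳ b.pt →
      Rect w a b y y' := fun hU a b ha hb ha' hb' =>
    (rect_of_affine hw a b y t hU ha hb ha' hb' hW hyW htW hy ht).trans_right hw
      (rect_of_affine hw a b t y' hU ha hb ha' hb' hW' htW' hyW' ht hy')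
  exact (h hU x z hxU hzU hx hz).trans hw (h hU' z x' hzU' hxU' hz hx')

/-- A unit on a product of connected schemes of finite type over an algebraically closed field
splits on rational points. -/
theorem rect_of_connected [CompactSpace X] [CompactSpace Y] [PreconnectedSpace X] [PreconnectedSpace Y]
    (hw : IsUnit w) (x x' : Pt p) (y y' : Pt q) : Rect w x x' y y' := by
  have : IsLocallyNoetherian X := LocallyOfFiniteType.isLocallyNoetherian p
  have : IsLocallyNoetherian Y := LocallyOfFiniteType.isLocallyNoetherian q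
  have : IsNoetherian X := {}
  have : IsNoetherian Y := {}
  have hpt : ∀ {Z : Scheme.{u}} (r : Z ⟶ Spec (.of K)) [LocallyOfFiniteType r] (a : Pt r),
      IsClosed ({a.pt} : Set Z) := fun r _ a => (pointEquivClosedPoint r a).2
  have hY : ∀ (η : X) (a a' : Pt p), η ⤳ a.pt → η ⤳ a'.pt → ∀ b b' : Pt q, Rect w a a' b b' := by
    intro η a a' ha ha' b b'
    refine rel_of_connected (fun s t => ∀ (c d : Pt q), c.pt = s → d.pt = t → Rect w a a' c d)
      ?_ ?_ (hpt q b) (hpt q b') b b' rfl rfl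
    · intro s t r hst h h' c d hc hd
      let e : Pt q := ⟨pointOfClosedPoint q t hst, pointOfClosedPoint_comp _ _ _⟩
      have he : e.pt = t := pointOfClosedPoint_apply _ _ _ _
      exact (h c e hc he).trans_right hw (h' e d he hd)
    · intro θ s t hs ht hθs hθt c d hc hd
      exact rect_of_common_generization hw a a' c d ha ha' (hc ▸ hθs) (hd ▸ hθt)
  refine rel_of_connected (fun s t => ∀ (c d : Pt p), c.pt = s → d.pt = t → Rect w c d y y')
    ?_ ?_ (hpt p x) (hpt p x') x x' rfl rfl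
  · intro s t r hst h h' c d hc hd
    let e : Pt p := ⟨pointOfClosedPoint p t hst, pointOfClosedPoint_comp _ _ _⟩
    have he : e.pt = t := pointOfClosedPoint_apply _ _ _ _
    exact (h c e hc he).trans hw (h' e d he hd)
  · intro η s t hs ht hηs hηt c d hc hd
    exact hY η c d (hc ▸ hηs) (hd ▸ hηt) y y'

end GrothLib.UnitProd
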